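import Mathlib.RingTheory.Unramified.Finite
import Mathlib.RingTheory.Etale.Basic
import Mathlib.RingTheory.Flat.FaithfullyFlat.Algebra
import Mathlib.LinearAlgebra.LinearIndependent.Basic
import Mathlib.FieldTheory.IsAlgClosed.AlgebraicClosure
import Mathlib.RingTheory.Spectrum.Prime.Topology
import Mathlib.Algebra.Polynomial.Lifts
import Mathlib.Algebra.Polynomial.RingDivision
import Mathlib.RingTheory.Ideal.Quotient.Basic

/-!
# Finite etale algebras with a finite commutative group acting simply transitively on geometric points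
-/

set_option autoImplicit false

universe u v

open TensorProduct Polynomial

namespace Groth.Agent.H80.Torsor

variable {A B : Type u} [CommRing A] [CommRing B] [Algebra A B] {G : Type v} [CommGroup G]

/-- `σ` makes `B` a torsor algebra over `A`. -/
structure IsTorsor (σ : G →* (B →ₐ[A] B)) : Prop where
  surj : Function.Surjective (PrimeSpectrum.comap (algebraMap A B))
  trans : ∀ (Ω : Type u) [Field Ω] [IsAlgClosed Ω] (s t : B →+* Ω),
    s.comp (algebraMap A B) = t.comp (algebraMap A B) →
      ∃! g, s.comp (σ g).toRingHom = t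

variable {σ : G →* (B →ₐ[A] B)} (hσ : IsTorsor σ)

theorem comp_apply' (σ : G →* (B →ₐ[A] B)) (g h : G) (x : B) : σ g (σ h x) = σ (g * h) x := by
  rw [map_mul]; rfl

variable [Fintype G]

/-- The averaging operator of a function on the group. -/
noncomputable def avg (σ : G →* (B →ₐ[A] B)) (c : G → A) (x : B) : B := ∑ g, c g • σ g x

theorem apply_avg (σ : G →* (B →ₐ[A] B)) (c : G → A) (x : B) (h : G) :
    σ h (avg σ c x) = ∑ g, c (h⁻¹ * g) • σ g x := by
  rw [avg, map_sum]
  refine Fintype.sum_equiv (Equiv.mulLeft h) _ _ fun g => ?_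
  rw [map_smul, comp_apply', Equiv.coe_mulLeft, inv_mul_cancel_left]

include hσ in
/-- Independence of the conjugates of a geometric point. -/
theorem exists_avg_ne_zero {Ω : Type u} [Field Ω] [IsAlgClosed Ω] (s : B →+* Ω) (c : G → A)
    (hc : ∃ g, s (algebraMap A B (c g)) ≠ 0) : ∃ x, s (avg σ c x) ≠ 0 := by
  by_contra! h
  let φ : G → (B →* Ω) := fun g => (s.comp (σ g).toRingHom).toMonoidHom
  have hinj : Function.Injective φ := fun g g' hgg => by
    have hs : s.comp (algebraMap A B) = (s.comp (σ g).toRingHom).comp (algebraMap A B) :=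
      RingHom.ext fun a => congrArg s ((σ g).commutes a).symm
    obtain ⟨k, -, hk⟩ := hσ.trans Ω s _ hs
    exact (hk g rfl).trans (hk g' (RingHom.ext fun x => (DFunLike.congr_fun hgg x).symm)).symm
  have hli := (linearIndependent_monoidHom B Ω).comp φ hinj
  obtain ⟨g, hg⟩ := hc
  refine hg ((Fintype.linearIndependent_iff.mp hli) (fun g => s (algebraMap A B (c g))) ?_ g)
  ext x
  rw [Finset.sum_apply, Pi.zero_apply, ← h x, avg, map_sum]
  refine Finset.sum_congr rfl fun g _ => ?_
  rw [Pi.smul_apply, smul_eq_mul, Algebra.smul_def, map_mul]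
  rfl

omit [Fintype G] [CommGroup G] in
theorem eq_zero_of_points {z : B ⊗[A] B} (hz : IsIdempotentElem z)
    (h : ∀ (Ω : Type u) [Field Ω] [IsAlgClosed Ω] (χ : B ⊗[A] B →+* Ω), χ z = 0) : z = 0 := by
  refine hz.eq_zero_of_isNilpotent ?_
  rw [nilpotent_iff_mem_prime]
  intro P hP
  let Ω := AlgebraicClosure (FractionRing ((B ⊗[A] B) ⧸ P))
  let i : (B ⊗[A] B) ⧸ P →+* Ω :=
    (algebraMap (FractionRing ((B ⊗[A] B) ⧸ P)) Ω).comp (algebraMap _ _)
  have := h Ω (i.comp (Ideal.Quotient.mk P))
  rw [RingHom.comp_apply] at this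
  refine Ideal.Quotient.eq_zero_iff_mem.mp ?_
  exact (((algebraMap (FractionRing ((B ⊗[A] B) ⧸ P)) Ω).injective.comp
    (IsFractionRing.injective _ _) : Function.Injective i)) (this.trans (map_zero i).symm)

open Algebra.FormallyUnramified in
include hσ in
/-- The invariant elements come from `A`. -/
theorem exists_of_fixed [Algebra.FormallyUnramified A B] [Algebra.EssFiniteType A B] [Module.Flat A B]
    (c : B) (hc : ∀ g, σ g c = c) : ∃ a, algebraMap A B a = c := by
  classical
  let e := elem A B
  have he1 : ∀ x : B, ((1 : B) ⊗ₜ[A] x) * e = (x ⊗ₜ[A] 1) * e := fun x => one_tmul_mul_elem x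
  have hlmul : Algebra.TensorProduct.lmul' A e = (1 : B) := lmul_elem
  let w := fun g => Algebra.TensorProduct.map (AlgHom.id A B) (σ g)
  have hie : IsIdempotentElem e := by
    have key : ∀ t, t * e = (Algebra.TensorProduct.lmul' A t ⊗ₜ[A] (1 : B)) * e := by
      intro t
      induction t with
      | zero => simp
      | add t t' ht ht' => rw [add_mul, ht, ht', map_add, add_tmul, add_mul]
      | tmul x y =>
        rw [Algebra.TensorProduct.lmul'_apply_tmul, show x ⊗ₜ[A] y = (x ⊗ₜ[A] 1) * ((1 : B) ⊗ₜ[A] y) by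
          simp, mul_assoc, he1, ← mul_assoc]
        simp
    unfold IsIdempotentElem
    rw [key e, hlmul]
    exact one_mul e
  -- values of the translates at points
  have hval : ∀ (Ω : Type u) [Field Ω] [IsAlgClosed Ω] (χ : B ⊗[A] B →+* Ω) (g : G),
      (χ (w g e) = 0 ∨ χ (w g e) = 1) ∧ (χ (w g e) = 1 ↔
        (χ.comp Algebra.TensorProduct.includeRight.toRingHom).comp (σ g).toRingHom =
          χ.comp Algebra.TensorProduct.includeLeftRingHom) := by
    intro Ω _ _ χ g
    have h01 : χ (w g e) = 0 ∨ χ (w g e) = 1 :=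
      IsIdempotentElem.iff_eq_zero_or_one.mp ((hie.map (w g)).map χ)
    refine ⟨h01, fun h1 => RingHom.ext fun x => ?_, fun hx => ?_⟩
    · have := congrArg (fun t => χ (w g t)) (he1 x)
      simpa [w, h1] using this
    · have key : ∀ t, χ (w g t) =
          χ (Algebra.TensorProduct.lmul' A t ⊗ₜ[A] (1 : B)) := by
        intro t
        induction t with
        | zero => simp
        | add t t' ht ht' => rw [map_add, map_add, ht, ht', map_add, add_tmul, map_add]
        | tmul x y =>
          have := DFunLike.congr_fun hx y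
          simp only [RingHom.comp_apply] at this
          rw [show w g (x ⊗ₜ[A] y) = (x ⊗ₜ[A] 1) * ((1 : B) ⊗ₜ[A] σ g y) by simp [w], map_mul,
            show χ ((1 : B) ⊗ₜ[A] σ g y) = χ (y ⊗ₜ[A] (1 : B)) from this, ← map_mul]
          simp
      rw [key, hlmul]
      exact map_one χ
  have huniq : ∀ (Ω : Type u) [Field Ω] [IsAlgClosed Ω] (χ : B ⊗[A] B →+* Ω),
      ∃! g, χ (w g e) = 1 := fun Ω _ _ χ => by
    refine (existsUnique_congr fun g => (hval Ω χ g).2).mpr (hσ.trans Ω _ _ (RingHom.ext fun a => ?_))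
    change χ ((1 : B) ⊗ₜ[A] algebraMap A B a) = χ (algebraMap A B a ⊗ₜ[A] (1 : B))
    rw [Algebra.algebraMap_eq_smul_one, tmul_smul, smul_tmul']
  have horth : OrthogonalIdempotents fun g => w g e := by
    refine ⟨fun g => hie.map (w g), fun g g' hne => eq_zero_of_points
      ((hie.map (w g)).mul (hie.map (w g'))) fun Ω _ _ χ => ?_⟩
    rw [map_mul]
    rcases (hval Ω χ g).1 with h | h
    · rw [h, zero_mul]
    rcases (hval Ω χ g').1 with h' | h'
    · rw [h', mul_zero]
    · exact absurd ((huniq Ω χ).unique h h') hne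
  have hsum : ∑ g, w g e = 1 := by
    refine (sub_eq_zero.mp (eq_zero_of_points horth.isIdempotentElem_sum.one_sub
      fun Ω _ _ χ => ?_)).symm
    obtain ⟨g, hg, hu⟩ := huniq Ω χ
    rw [map_sub, map_one, map_sum, Finset.sum_eq_single g (fun g' _ hne => ?_) (fun h =>
      absurd (Finset.mem_univ g) h), hg, sub_self]
    exact ((hval Ω χ g').1).resolve_right fun h => hne (hu g' h)
  have hz : (1 : B) ⊗ₜ[A] c = c ⊗ₜ[A] (1 : B) := by
    rw [← sub_eq_zero, ← mul_one ((1 : B) ⊗ₜ[A] c - c ⊗ₜ[A] (1 : B)), ← hsum, Finset.mul_sum]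
    refine Finset.sum_eq_zero fun g _ => ?_
    rw [show (1 : B) ⊗ₜ[A] c - c ⊗ₜ[A] (1 : B) = w g ((1 : B) ⊗ₜ[A] c - c ⊗ₜ[A] (1 : B)) by
      simp [w, hc g], ← map_mul, sub_mul, he1, sub_self, map_zero]
  have := Module.FaithfullyFlat.of_comap_surjective hσ.surj
  let N : Submodule A B := LinearMap.range (Algebra.linearMap A B)
  have h0 : TensorProduct.mk A B (B ⧸ N) 1 (N.mkQ c) = 0 := by
    have := congrArg (LinearMap.lTensor B N.mkQ) hz
    rw [LinearMap.lTensor_tmul, LinearMap.lTensor_tmul] at this
    rw [TensorProduct.mk_apply, this, (Submodule.Quotient.mk_eq_zero N).mpr ⟨1, map_one (algebraMap A B)⟩ |> fun h =>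
      (show N.mkQ (1 : B) = 0 from h), tmul_zero]
  have := Module.FaithfullyFlat.tensorProduct_mk_injective (A := A) (B := B) (B ⧸ N)
    (h0.trans (map_zero _).symm)
  exact (Submodule.Quotient.mk_eq_zero N).mp this

omit [Fintype G] in
include hσ in
/-- A geometric point over a maximal ideal. -/
theorem exists_point [Algebra.IsIntegral A B] (m : Ideal A) [m.IsMaximal] :
    ∃ (Ω : Type u) (_ : Field Ω) (_ : IsAlgClosed Ω) (s : B →+* Ω),
      ∀ a, s (algebraMap A B a) = 0 ↔ a ∈ m := by
  obtain ⟨q, hq⟩ := hσ.surj ⟨m, inferInstance⟩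
  let K := FractionRing (B ⧸ q.asIdeal)
  refine ⟨AlgebraicClosure K, inferInstance, inferInstance,
    ((algebraMap K _).comp (algebraMap (B ⧸ q.asIdeal) K)).comp (Ideal.Quotient.mk _), fun a => ?_⟩
  rw [RingHom.comp_apply, map_eq_zero_iff ((algebraMap K (AlgebraicClosure K)).comp (algebraMap (B ⧸ q.asIdeal) K))
    ((algebraMap K (AlgebraicClosure K)).injective.comp (IsFractionRing.injective _ _)),
    Ideal.Quotient.eq_zero_iff_mem]
  conv_rhs => rw [← show Ideal.comap (algebraMap A B) q.asIdeal = m from congrArg PrimeSpectrum.asIdeal hq]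
  rfl

theorem prod_dvd {ι : Type*} (s : Finset ι) (x : ι → B) (P : B[X])
    (hu : ∀ i ∈ s, ∀ j ∈ s, i ≠ j → IsUnit (x i - x j)) (hP : ∀ i ∈ s, P.eval (x i) = 0) :
    ∏ i ∈ s, (X - Polynomial.C (x i)) ∣ P :=
  Finset.prod_dvd_of_coprime (fun i hi j hj hne =>
    isCoprime_X_sub_C_of_isUnit_sub (hu i hi j hj hne)) fun i hi => dvd_iff_isRoot.mpr (hP i hi)

include hσ in
/-- An algebra generated by a root maps bijectively to a torsor algebra if the conjugates are apart. -/
theorem bijective_of_conjugates [Algebra.FormallyUnramified A B] [Algebra.EssFiniteType A B]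
    [Module.Flat A B] {C : Type u} [CommRing C] [Algebra A C] (φ : C →ₐ[A] B) (t : C) (f : A[X])
    (hf : f.Monic) (hdeg : f.natDegree = Fintype.card G) (ht : aeval t f = 0)
    (hgen : Function.Surjective (aeval (R := A) t))
    (hu : ∀ g h, g ≠ h → IsUnit (σ g (φ t) - σ h (φ t))) : Function.Bijective φ := by
  classical
  constructor
  · rw [injective_iff_map_eq_zero]
    intro z hz
    obtain ⟨P, rfl⟩ := hgen z
    suffices h0 : P %ₘ f = 0 by
      rw [← modByMonic_add_div P f, h0, zero_add, map_mul, ht, zero_mul]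
    have hP : ∀ g, ((P %ₘ f).map (algebraMap A B)).eval (σ g (φ t)) = 0 := by
      intro g
      rw [eval_map, ← aeval_def, aeval_algHom_apply, aeval_algHom_apply,
        modByMonic_eq_sub_mul_div P, map_sub, map_mul, ht, zero_mul, sub_zero, hz, map_zero]
    have hd := prod_dvd Finset.univ (fun g => σ g (φ t)) _ (fun g _ h _ hne => hu g h hne)
      (fun g _ => hP g)
    have := Module.FaithfullyFlat.of_comap_surjective hσ.surj
    refine (Polynomial.map_eq_zero_iff (FaithfulSMul.algebraMap_injective A B)).mp ?_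
    by_contra hne
    rcases subsingleton_or_nontrivial B with _ | _
    · exact hne (Subsingleton.elim _ _)
    obtain ⟨r, hr⟩ := hd
    have hmon : (∏ g : G, (X - Polynomial.C (σ g (φ t)))).Monic := monic_prod_X_sub_C _ _
    have hr0 : r ≠ 0 := fun h => hne (by rw [hr, h, mul_zero])
    have h1 : ((P %ₘ f).map (algebraMap A B)).natDegree =
        (∏ g : G, (X - Polynomial.C (σ g (φ t)))).natDegree + r.natDegree := by
      rw [hr, hmon.natDegree_mul' hr0]
    rw [natDegree_finsetProd_X_sub_C_eq_card, Finset.card_univ] at h1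
    have hf1 : f ≠ 1 := fun h => by simp [h, Fintype.card_ne_zero.symm] at hdeg
    have h2 := natDegree_map_le (f := algebraMap A B) (p := P %ₘ f)
    have h3 := natDegree_modByMonic_lt P hf hf1
    omega
  · intro y
    let bb := fun g => σ g (φ t)
    let D : G → B := fun g => ∏ h ∈ Finset.univ.erase g, (bb g - bb h)
    have hD : ∀ g, IsUnit (D g) := fun g =>
      IsUnit.prod_iff.mpr fun h hh => hu g h (Finset.ne_of_mem_erase hh).symm
    let L : G → B[X] := fun g =>
      Polynomial.C (σ g y * Ring.inverse (D g)) * ∏ h ∈ Finset.univ.erase g, (X - Polynomial.C (bb h))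
    let Q : B[X] := ∑ g, L g
    have hQ : ∀ k, Q.map (σ k).toRingHom = Q := by
      intro k
      rw [Polynomial.map_sum]
      refine Fintype.sum_equiv (Equiv.mulLeft k) _ _ fun g => ?_
      have hbb : ∀ g, σ k (bb g) = bb (k * g) := fun g => comp_apply' σ k g _
      have hDk : σ k (D g) = D (k * g) := by
        rw [map_prod]
        refine Finset.prod_equiv (Equiv.mulLeft k) (fun h => ?_) fun h _ => ?_
        · simp
        · rw [map_sub, hbb, hbb]; rfl
      have hinv : σ k (Ring.inverse (D g)) = Ring.inverse (D (k * g)) := by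
        obtain ⟨w, hw⟩ := hD g
        rw [← hDk, ← hw, Ring.inverse_unit]
        exact (Ring.inverse_unit (Units.map (σ k).toRingHom.toMonoidHom w)).symm
      change (L g).map _ = L (k * g)
      rw [Polynomial.map_mul, Polynomial.map_C, Polynomial.map_prod]
      congr 1
      · change Polynomial.C (σ k (σ g y * Ring.inverse (D g))) = _
        rw [map_mul, comp_apply', hinv]
      · refine Finset.prod_equiv (Equiv.mulLeft k) (fun h => ?_) fun h _ => ?_
        · simp
        · rw [Polynomial.map_sub, Polynomial.map_X, Polynomial.map_C]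
          exact congrArg (fun b => X - Polynomial.C b) (hbb h)
    have hlift : Q ∈ lifts (algebraMap A B) := by
      refine (lifts_iff_coeff_lifts _).mpr fun n => exists_of_fixed hσ _ fun g => ?_
      conv_rhs => rw [← hQ g, Polynomial.coeff_map]
      rfl
    obtain ⟨P, hP⟩ := hlift
    refine ⟨aeval t P, ?_⟩
    rw [← aeval_algHom_apply, aeval_def, ← eval_map]
    rw [show P.map (algebraMap A B) = Q from hP, eval_finsetSum, Finset.sum_eq_single 1]
    · have h1 : bb 1 = φ t := by simp [bb]
      simp only [L, eval_mul, eval_C, eval_prod, eval_sub, eval_X, map_one, AlgHom.one_apply]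
      rw [← h1, show ∏ h ∈ Finset.univ.erase (1 : G), (bb 1 - bb h) = D 1 from rfl, mul_assoc,
        Ring.inverse_mul_cancel _ (hD 1), mul_one]
    · intro g _ hg
      have h1 : bb 1 = φ t := by simp [bb]
      simp only [L, eval_mul, eval_C, eval_prod, eval_sub, eval_X]
      rw [Finset.prod_eq_zero (i := 1) (Finset.mem_erase.mpr ⟨hg.symm, Finset.mem_univ _⟩)
        (by rw [h1, sub_self]), mul_zero]
    · exact fun h => absurd (Finset.mem_univ _) h

end Groth.Agent.H80.Torsor
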