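import Groth.Agent.H80.Torsor.Basic
import Groth.Prelude.Def_SGA1t
import Mathlib.AlgebraicGeometry.AffineScheme
import Mathlib.AlgebraicGeometry.Morphisms.Etale

/-!
# Principal covers of affine schemes as torsor algebras
-/

set_option autoImplicit false
set_option backward.isDefEq.respectTransparency false

universe u v

open CategoryTheory CategoryTheory.Limits AlgebraicGeometry

namespace Groth.Agent.H80.Torsor

variable {A : Type u} [CommRing A]

/-- Principal covers of `Spec A` are spectra of torsor algebras. -/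
theorem exists_torsor {G : Type v} [CommGroup G] (P : FEt.Cat (Spec (CommRingCat.of A)))
    (ρ : G →* Aut P) (hP : SGA1t.IsPrincipal G P ρ) :
    ∃ (B : Type u) (_ : CommRing B) (_ : Algebra A B) (_ : Module.Finite A B) (_ : Algebra.Etale A B)
      (σ : G →* (B →ₐ[A] B)) (e : P.left ≅ Spec (CommRingCat.of B)), IsTorsor σ ∧
      e.hom ≫ Spec.map (CommRingCat.ofHom (algebraMap A B)) = P.hom ∧
      ∀ g, (ρ g).hom.left ≫ e.hom = e.hom ≫ Spec.map (CommRingCat.ofHom (σ g).toRingHom) := by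
  let v : P.left ⟶ Spec (CommRingCat.of A) := P.hom
  have : IsFinite v := P.prop.1
  have : Etale v := P.prop.2
  have : IsAffine P.left := isAffine_of_isAffineHom v
  let ψ : CommRingCat.of A ⟶ Γ(P.left, ⊤) := (Scheme.ΓSpecIso (CommRingCat.of A)).inv ≫ v.appTop
  have hψ : P.left.isoSpec.hom ≫ Spec.map ψ = v := by
    change P.left.toSpecΓ ≫ _ = _
    rw [Spec.map_comp, ← Scheme.toSpecΓ_naturality_assoc, toSpecΓ_SpecMap_ΓSpecIso_inv,
      Category.comp_id]
  have hψ' : P.left.isoSpec.inv ≫ v = Spec.map ψ := by rw [Iso.inv_comp_eq, hψ]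
  let : Algebra A Γ(P.left, ⊤) := ψ.hom.toAlgebra
  have hnat : ∀ g, (ρ g).hom.left ≫ P.left.isoSpec.hom =
      P.left.isoSpec.hom ≫ Spec.map (ρ g).hom.left.appTop := fun g =>
    Scheme.toSpecΓ_naturality _
  have hw : ∀ g, (ρ g).hom.left ≫ v = v := fun g => Over.w (ρ g).hom.hom
  let τ : G → (Γ(P.left, ⊤) →ₐ[A] Γ(P.left, ⊤)) := fun g =>
    { (ρ g).hom.left.appTop.hom with
      commutes' := fun a => by
        change (ψ ≫ (ρ g).hom.left.appTop).hom a = ψ.hom a
        rw [Category.assoc, ← Scheme.Hom.comp_appTop, hw] }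
  let σ : G →* (Γ(P.left, ⊤) →ₐ[A] Γ(P.left, ⊤)) :=
    { toFun := τ
      map_one' := AlgHom.ext fun x => by
        change (ρ 1).hom.left.appTop.hom x = x
        rw [map_one]
        rfl
      map_mul' := fun g h => AlgHom.ext fun x => by
        change (ρ (g * h)).hom.left.appTop.hom x = (ρ g).hom.left.appTop.hom ((ρ h).hom.left.appTop.hom x)
        rw [mul_comm g h, map_mul]
        rfl }
  have hfin : (ψ.hom).Finite := (IsFinite.SpecMap_iff ψ).mp (by
    rw [← hψ']; infer_instance)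
  have het : (ψ.hom).Etale := (HasRingHomProperty.Spec_iff (P := @Etale)).mp (by
    rw [← hψ']; infer_instance)
  have : Module.Finite A Γ(P.left, ⊤) := hfin
  have : Algebra.Etale A Γ(P.left, ⊤) := RingHom.etale_algebraMap.mp het
  refine ⟨Γ(P.left, ⊤), inferInstance, inferInstance, inferInstance, inferInstance, σ,
    P.left.isoSpec, ⟨fun q => ?_, fun Ω _ _ s t hst => ?_⟩, hψ, fun g => hnat g⟩
  · obtain ⟨x, hx⟩ := hP.1 q
    refine ⟨P.left.isoSpec.hom.base x, ?_⟩
    change (P.left.isoSpec.hom ≫ Spec.map ψ).base x = q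
    rw [hψ]
    exact hx
  let pt : (Γ(P.left, ⊤) →+* Ω) → (Spec (CommRingCat.of Ω) ⟶ P.left) := fun r =>
    Spec.map (CommRingCat.ofHom r) ≫ P.left.isoSpec.inv
  have hpt : ∀ r, pt r ≫ v = Spec.map (CommRingCat.ofHom (r.comp (algebraMap A _))) := fun r => by
    rw [Category.assoc, hψ', ← Spec.map_comp]
    rfl
  have hact : ∀ r g, pt r ≫ (ρ g).hom.left = pt (r.comp (σ g).toRingHom) := fun r g => by
    simp only [pt]
    rw [Category.assoc, ← Scheme.isoSpec_inv_naturality, ← Spec.map_comp_assoc]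
    rfl
  have hinj : Function.Injective pt := fun r r' h => by
    have := Spec.map_injective ((cancel_mono P.left.isoSpec.inv).mp h)
    exact congrArg CommRingCat.Hom.hom this
  obtain ⟨g, hg, hu⟩ := hP.2 Ω (Spec.map (CommRingCat.ofHom (s.comp (algebraMap A _))))
    ⟨pt s, hpt s⟩ ⟨pt t, (hpt t).trans (by rw [hst])⟩
  refine ⟨g, hinj ((hact s g).symm.trans (congrArg Subtype.val hg)), fun g' hg' => hu g' ?_⟩
  refine Subtype.ext ?_
  change pt s ≫ (ρ g').hom.left = pt t
  rw [hact, hg']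

/-- Transport of a torsor structure along an isomorphism of algebras. -/
theorem exists_iso {G : Type v} {P : FEt.Cat (Spec (CommRingCat.of A))} (act : G → (P.left ⟶ P.left))
    {B C : Type u} [CommRing B] [Algebra A B] [CommRing C] [Algebra A C]
    (σ : G → (B →ₐ[A] B)) (e : P.left ≅ Spec (CommRingCat.of B))
    (he : e.hom ≫ Spec.map (CommRingCat.ofHom (algebraMap A B)) = P.hom)
    (hact : ∀ g, act g ≫ e.hom = e.hom ≫ Spec.map (CommRingCat.ofHom (σ g).toRingHom))
    (φ : C →ₐ[A] B) (hφ : Function.Bijective φ) (τ : G → (C →+* C))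
    (hτ : ∀ g c, φ (τ g c) = σ g (φ c)) :
    ∃ e' : P.left ≅ Spec (CommRingCat.of C),
      e'.hom ≫ Spec.map (CommRingCat.ofHom (algebraMap A C)) = P.hom ∧
      ∀ g, act g ≫ e'.hom = e'.hom ≫ Spec.map (CommRingCat.ofHom (τ g)) := by
  have : IsIso (CommRingCat.ofHom φ.toRingHom) :=
    (RingEquiv.ofBijective φ.toRingHom hφ).toCommRingCatIso.isIso_hom
  refine ⟨e ≪≫ asIso (Spec.map (CommRingCat.ofHom φ.toRingHom)), ?_, fun g => ?_⟩
  · rw [Iso.trans_hom, asIso_hom, Category.assoc, ← Spec.map_comp, ← CommRingCat.ofHom_comp,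
      AlgHom.toRingHom_eq_coe, AlgHom.comp_algebraMap]
    exact he
  · rw [Iso.trans_hom, asIso_hom, reassoc_of% (hact g), Category.assoc, ← Spec.map_comp,
      ← Spec.map_comp]
    congr 2
    ext c
    exact (hτ g c).symm

end Groth.Agent.H80.Torsor
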